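import Groth.Agent.Lambda.AdamsRR
import Mathlib.RingTheory.Polynomial.Vieta

/-!
# Adams–Riemann–Roch for an elementary projection
-/

universe v

open Finset LambdaRing Polynomial
open scoped TensorProduct

namespace Groth.Agent.Lambda

variable {K : Type v} [CommRing K] [LambdaOps K] {P : PosStructure K} {e : K}

theorem map_extPoly {A : Type*} [CommRing A] (g : K →+* A) {m : ℕ} (u : Fin m → A)
    (hm : (P.aug e).toNat = m) (h : ∀ k, g (LambdaOps.lam k e) = ((univ : Finset (Fin m)).val.map u).esymm k) :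
    (KRR.extPoly P e).map g = splitPoly u := by
  have hs := Multiset.prod_X_sub_X_eq_sum_esymm ((univ : Finset (Fin m)).val.map u)
  rw [Multiset.map_map, Multiset.card_map] at hs
  rw [splitPoly, Finset.prod_eq_multiset_prod, show (fun a => X - C (u a)) = (fun t => X - C t) ∘ u from rfl, hs,
    KRR.extPoly, hm, Polynomial.map_sum]
  simp only [Finset.card_val, card_univ, Fintype.card_fin]
  refine sum_congr rfl fun i _ => ?_
  simp [h]
  ring

theorem flat_int_of_isLocalization {R : Type*} [CommRing R] [a : Algebra ℤ R] (M : Submonoid ℤ) [IsLocalization M R] :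
    @Module.Flat ℤ R _ _ (AddCommGroup.toIntModule R) := by
  obtain rfl : a = Ring.toIntAlgebra R := Subsingleton.elim _ _
  exact IsLocalization.flat R M

theorem monic_extPoly_natDegree (P : PosStructure K) (e : K) :
    (KRR.extPoly P e).Monic ∧ (KRR.extPoly P e).natDegree ≤ (P.aug e).toNat := by
  refine ⟨?_, natDegree_sum_le_of_forall_le _ _ fun i _ => ?_⟩
  · refine monic_of_natDegree_le_of_coeff_eq_one (P.aug e).toNat
      (natDegree_sum_le_of_forall_le _ _ fun i _ => ?_) ?_
    · exact (natDegree_C_mul_X_pow_le _ _).trans (Nat.sub_le _ _)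
    · rw [KRR.extPoly, finsetSum_coeff, sum_eq_single 0]
      · simp [LambdaOps.lam_zero]
      · intro i hi hi0
        rw [mem_range] at hi
        rw [coeff_C_mul_X_pow, if_neg (by omega)]
      · simp
  · exact (natDegree_C_mul_X_pow_le _ _).trans (Nat.sub_le _ _)

section Tensor

variable (R : Type*) (X : Type*) [CommRing R] [CommRing X]

/-- `y ↦ 1 ⊗ y`. -/
noncomputable def incR : X →+* R ⊗[ℤ] X := (Algebra.TensorProduct.includeRight : _ →ₐ[ℤ] _).toRingHom

/-- `a ↦ a ⊗ 1`. -/
noncomputable def incL : R →+* R ⊗[ℤ] X := Algebra.TensorProduct.includeLeftRingHom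

theorem incR_apply (y : X) : incR R X y = (1 : R) ⊗ₜ[ℤ] y := rfl

theorem incL_apply (a : R) : incL R X a = a ⊗ₜ[ℤ] (1 : X) := rfl

theorem incL_mul_incR (a : R) (y : X) : incL R X a * incR R X y = a ⊗ₜ[ℤ] y := by
  simp [incL_apply, incR_apply]

variable {R X} {B : Type*} [CommRing B] (l : R →+* B) (g : X →+* B)

/-- The map out of a tensor product of rings. -/
noncomputable def liftR : R ⊗[ℤ] X →+* B := (Algebra.TensorProduct.productMap l.toIntAlgHom g.toIntAlgHom).toRingHom

theorem liftR_tmul (a : R) (y : X) : liftR l g (a ⊗ₜ[ℤ] y) = l a * g y := by simp [liftR]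

theorem liftR_inverse {w : R ⊗[ℤ] X} {θ : X} (h : w * ((1 : R) ⊗ₜ[ℤ] θ) = 1) : liftR l g w * g θ = 1 := by
  have := congrArg (liftR l g) h
  rwa [map_mul, map_one, liftR_tmul, map_one, one_mul] at this

theorem liftR_natCast_mul_mul (n : ℕ) (w : R ⊗[ℤ] X) (y : X) :
    liftR l g ((n : R ⊗[ℤ] X) * w * ((1 : R) ⊗ₜ[ℤ] y)) = n * liftR l g w * g y := by
  rw [map_mul, map_mul, map_natCast, liftR_tmul, map_one, one_mul]

theorem exists_inv_one_tmul {n : ℕ} (hn : IsUnit (n : R)) {a : X} {N : ℕ} (ha : (a - n) ^ N = 0) :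
    ∃ w : R ⊗[ℤ] X, w * ((1 : R) ⊗ₜ[ℤ] a) = 1 := by
  have hu : IsUnit (incR R X (n : X)) := by
    have := hn.map (incL R X)
    rwa [map_natCast, ← map_natCast (incR R X)] at this
  have h := IsNilpotent.isUnit_add_left_of_commute
    (show IsNilpotent (incR R X (a - n)) from ⟨N, by rw [← map_pow, ha, map_zero]⟩) hu (Commute.all _ _)
  rw [← map_add, add_sub_cancel] at h
  exact h.exists_left_inv

theorem factor_lTensor {K L : Type*} [CommRing K] [CommRing L] (f : X →+ K) (h : K →+* L) (φ : B →+ R ⊗[ℤ] L)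
    (hφ : ∀ a y, φ (l a * g y) = a ⊗ₜ[ℤ] h (f y)) (z : R ⊗[ℤ] X) :
    φ (liftR l g z) = LinearMap.lTensor R h.toAddMonoidHom.toIntLinearMap (LinearMap.lTensor R f.toIntLinearMap z) := by
  induction z using TensorProduct.induction_on with
  | zero => simp
  | tmul a y => rw [liftR_tmul, hφ]; simp
  | add a b ha hb => simp only [map_add, ha, hb]

theorem lTensor_injective {K L : Type*} [CommRing K] [CommRing L] [Module.Flat ℤ R] (h : K →+* L)
    (hh : Function.Injective h) : Function.Injective (LinearMap.lTensor R h.toAddMonoidHom.toIntLinearMap) :=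
  Module.Flat.lTensor_preserves_injective_linearMap _ hh

end Tensor

section Main

variable {r : ℕ} [inst : LambdaOps (AdjoinRoot (KRR.extPoly P e))]
  {Pe : PosStructure (AdjoinRoot (KRR.extPoly P e))}
  (hext : IsExtension P Pe (AdjoinRoot.of (KRR.extPoly P e)))
  (hline : Pe.IsLine (AdjoinRoot.root (KRR.extPoly P e)))
  (hsplit : HasSplitting (AdjoinRoot (KRR.extPoly P e)) Pe)
  (linv : AdjoinRoot (KRR.extPoly P e)) (hlinv : linv * AdjoinRoot.root (KRR.extPoly P e) = 1)

include hext hline hsplit hlinv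

theorem lam_of_mul_linv (k : ℕ) : LambdaOps.lam k (AdjoinRoot.of (KRR.extPoly P e) e * linv) =
    AdjoinRoot.of (KRR.extPoly P e) (LambdaOps.lam k e) * linv ^ k := by
  have h := lam_mul_line hsplit (AdjoinRoot.of (KRR.extPoly P e) e * linv) hline k
  rw [mul_assoc, hlinv, mul_one, ← hext.isLambdaHom] at h
  rw [h, mul_assoc, ← mul_pow, mul_comm (AdjoinRoot.root _), hlinv, one_pow, mul_one]

theorem aug_linv : Pe.aug linv = 1 := by
  have h := congrArg Pe.aug hlinv
  rwa [map_mul, hline.2, mul_one, map_one] at h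

theorem aug_of_mul_linv (hr : P.aug e = r + 1) :
    (Pe.aug (AdjoinRoot.of (KRR.extPoly P e) e * linv)).toNat = r + 1 := by
  rw [map_mul, aug_linv hext hline hsplit linv hlinv, mul_one, hext.aug_comp, hr]
  omega

theorem aug_bott (hK : HasSplitting K P) (he : e ∈ P.pos) (hr : P.aug e = r + 1) (j : ℕ) :
    Pe.aug (KRR.bott Pe j (AdjoinRoot.of (KRR.extPoly P e) e * linv)) = (j : ℤ) ^ (r + 1) := by
  rw [map_bott Pe.aug Pe j _ (fun _ : Fin (r + 1) => (1 : ℤ)) (aug_of_mul_linv hext hline hsplit linv hlinv hr)]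
  · simp [qS]
  · intro k
    rw [lam_of_mul_linv hext hline hsplit linv hlinv, map_mul, map_pow, aug_linv hext hline hsplit linv hlinv,
      one_pow, mul_one, hext.aug_comp, aug_lam hK he, hr, Finset.esymm_map_val]
    simp [show ((r : ℤ) + 1).toNat = r + 1 by omega]

theorem exists_inv_bott (R : Type) [CommRing R] (hK : HasSplitting K P) (he : e ∈ P.pos) (hr : P.aug e = r + 1)
    {N : ℕ} (hN : gammaFiltration Pe N = ⊥) {j : ℕ} (hjR : IsUnit (j : R)) :
    ∃ w : R ⊗[ℤ] AdjoinRoot (KRR.extPoly P e),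
      w * ((1 : R) ⊗ₜ[ℤ] KRR.bott Pe j (AdjoinRoot.of (KRR.extPoly P e) e * linv)) = 1 := by
  refine exists_inv_one_tmul (n := j ^ (r + 1)) (N := N) (by rw [Nat.cast_pow]; exact hjR.pow _) ?_
  have hy : Pe.aug (KRR.bott Pe j (AdjoinRoot.of (KRR.extPoly P e) e * linv) -
      ((j ^ (r + 1) : ℕ) : AdjoinRoot (KRR.extPoly P e))) = 0 := by
    rw [map_sub, aug_bott hext hline hsplit linv hlinv hK he hr, map_natCast, Nat.cast_pow, sub_self]
  have h := pow_mem (mem_one_of_aug_eq_zero hy) N
  rwa [mul_one, hN, AddSubgroup.mem_bot] at h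

theorem adams_rr (hK : HasSplitting K P) (he : e ∈ P.pos) (hr : P.aug e = r + 1)
    (f : AdjoinRoot (KRR.extPoly P e) →ₗ[K] K)
    (hf : ∀ i : ℕ, i ≤ r → f (AdjoinRoot.root (KRR.extPoly P e) ^ i) = KRR.sigma i e) {j : ℕ} (hj : 1 ≤ j)
    {R : Type} [CommRing R] [Module.Flat ℤ R] (w : R ⊗[ℤ] AdjoinRoot (KRR.extPoly P e))
    (hw : w * ((1 : R) ⊗ₜ[ℤ] KRR.bott Pe j (AdjoinRoot.of (KRR.extPoly P e) e * linv)) = 1)
    (x : AdjoinRoot (KRR.extPoly P e)) :
    (1 : R) ⊗ₜ[ℤ] adams P j (f x) =
      LinearMap.lTensor R f.toAddMonoidHom.toIntLinearMap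
        ((j : R ⊗[ℤ] AdjoinRoot (KRR.extPoly P e)) * w * ((1 : R) ⊗ₜ[ℤ] adams Pe j x)) := by
  obtain ⟨L, g, hg, hL, s, hs, hse, hcard⟩ := exists_split hK he
  obtain ⟨m, uL, hm, huL⟩ := exists_enum s
  have hm' : (P.aug e).toNat = r + 1 := by omega
  obtain rfl : m = r + 1 := by omega
  have hul : ∀ a, L.posStr.IsLine (uL a) := fun a =>
    hs _ (by rw [← huL]; exact Multiset.mem_map_of_mem uL (Finset.mem_univ_val a))
  have hsum : ∑ a, uL a = g e := by rw [← hse, Finset.sum_eq_multiset_sum, huL]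
  let inc : L.carrier →+* R ⊗[ℤ] L.carrier := incR R L.carrier
  let g' : K →+* R ⊗[ℤ] L.carrier := inc.comp g
  let u : Fin (r + 1) → R ⊗[ℤ] L.carrier := fun a => inc (uL a)
  have hu : ∀ a, IsUnit (u a) := fun a => (isUnit_line (hul a)).map inc
  have hlam : ∀ k, g' (LambdaOps.lam k e) = ((univ : Finset (Fin (r + 1))).val.map u).esymm k := by
    intro k
    simp only [g', RingHom.comp_apply]
    rw [hg.isLambdaHom, ← hsum]
    rw [lam_finset_sum_eq_esymm _ (fun a _ => lam_line (hul a))]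
    simp only [Finset.esymm_map_val, map_sum, map_prod, u]
  have hsig : ∀ i, g' (KRR.sigma i e) = hc u i := by
    intro i
    have h1 : g (KRR.sigma i e) = hc uL i := by
      have h := congrArg (PowerSeries.map g) (negLamSeries_mul_invOfUnit e)
      rw [map_mul, map_one, mul_comm] at h
      have hN : PowerSeries.map g (negLamSeries e) = ∏ a, (1 - PowerSeries.C (uL a) * PowerSeries.X) := by
        rw [← negLamSeries_lines uL hul, hsum]
        ext n
        simp [negLamSeries, PowerSeries.coeff_rescale, coeff_lamSeries, hg.isLambdaHom n e]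
      rw [hN] at h
      rw [hc, ← hSeries_unique uL h, PowerSeries.coeff_map]
      rfl
    simp only [g', RingHom.comp_apply, h1, map_hc, u]
  have hd := monic_extPoly_natDegree P e
  rw [hm'] at hd
  let Θ₁ : AdjoinRoot (KRR.extPoly P e) →+* AdjoinRoot (splitPoly u) :=
    AdjoinRoot.lift ((AdjoinRoot.of (splitPoly u)).comp g') (AdjoinRoot.root (splitPoly u)) (by
      rw [← eval₂_map, map_extPoly g' u hm' hlam]; exact AdjoinRoot.eval₂_root _)
  have hof : ∀ c, Θ₁ (AdjoinRoot.of _ c) = AdjoinRoot.of _ (g' c) := fun c => by simp [Θ₁]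
  have hroot : Θ₁ (AdjoinRoot.root _) = AdjoinRoot.root _ := by simp [Θ₁]
  let l : R →+* AdjoinRoot (splitPoly u) := (AdjoinRoot.of (splitPoly u)).comp (incL R L.carrier)
  obtain ⟨φ, hφ⟩ := exists_functional u (hc u)
  have hφ₁ : ∀ y, φ (Θ₁ y) = g' (f y) := by
    intro y
    obtain ⟨c, rfl⟩ := exists_coeffs hd.1 hd.2 y
    simp only [map_sum, map_mul, map_pow, hof, hroot, functional_of_mul']
    refine sum_congr rfl fun i hi => ?_
    rw [mem_range] at hi
    rw [hφ i hi, hf i (by omega), hsig]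
  have hφΘ := factor_lTensor l Θ₁ f.toAddMonoidHom g φ.toAddMonoidHom (fun a y => by
    show φ (AdjoinRoot.of _ (incL R L.carrier a) * Θ₁ y) = a ⊗ₜ[ℤ] g (f y)
    rw [functional_of_mul', hφ₁]
    exact incL_mul_incR R L.carrier a (g (f y)))
  apply lTensor_injective g hg.injective
  refine Eq.trans ?_ (hφΘ _)
  rw [LinearMap.toAddMonoidHom_coe, liftR_natCast_mul_mul]
  have hlinv' : Θ₁ linv * AdjoinRoot.root (splitPoly u) = 1 := by
    rw [← hroot, ← map_mul, hlinv, map_one]
  have hbott : Θ₁ (KRR.bott Pe j (AdjoinRoot.of (KRR.extPoly P e) e * linv)) = theta u j (Θ₁ linv) := by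
    rw [theta]
    refine map_bott Θ₁ Pe j _ _ (aug_of_mul_linv hext hline hsplit linv hlinv hr) fun k => ?_
    rw [lam_of_mul_linv hext hline hsplit linv hlinv, map_mul, map_pow, hof, hlam, esymm_map_mul,
      Finset.esymm_map_val, Finset.esymm_map_val]
    simp only [map_sum, map_prod]
  have hw' : liftR l Θ₁ w * theta u j (Θ₁ linv) = 1 := hbott ▸ liftR_inverse l Θ₁ hw
  have hadm : ∀ i, g' (adams P j (KRR.sigma i e)) = hc (fun a => u a ^ j) i := by
    intro i
    have h1 : g (KRR.sigma i e) = hc uL i := by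
      have h := congrArg (PowerSeries.map g) (negLamSeries_mul_invOfUnit e)
      rw [map_mul, map_one, mul_comm] at h
      have hN : PowerSeries.map g (negLamSeries e) = ∏ a, (1 - PowerSeries.C (uL a) * PowerSeries.X) := by
        rw [← negLamSeries_lines uL hul, hsum]
        ext n
        simp [negLamSeries, PowerSeries.coeff_rescale, coeff_lamSeries, hg.isLambdaHom n e]
      rw [hN] at h
      rw [hc, ← hSeries_unique uL h, PowerSeries.coeff_map]
      rfl
    simp only [g', RingHom.comp_apply, map_adams hg.isLambdaHom hg.aug_comp, h1]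
    rw [show adams L.posStr j (hc uL i) = adamsRingHom hL j (hc uL i) from rfl, map_hc, map_hc]
    congr 1
    funext a
    simp [u, show adamsRingHom hL j (uL a) = uL a ^ j from adams_line (hul a) j]
  obtain ⟨c, rfl⟩ := exists_coeffs hd.1 hd.2 x
  have hA : ∀ y, adams Pe j y = adamsRingHom hsplit j y := fun _ => rfl
  have hL1 : LinearMap.lTensor R g.toAddMonoidHom.toIntLinearMap ((1 : R) ⊗ₜ[ℤ] adams P j (f (∑ i ∈ range (r + 1), AdjoinRoot.of _ (c i) *
      AdjoinRoot.root (KRR.extPoly P e) ^ i))) =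
      ∑ i ∈ range (r + 1), g' (adams P j (c i)) * hc (fun a => u a ^ j) i := by
    rw [show adams P j _ = adamsRingHom hK j _ from rfl]
    simp only [map_sum, functional_of_mul]
    rw [TensorProduct.tmul_sum, map_sum]
    refine sum_congr rfl fun i hi => ?_
    rw [mem_range] at hi
    rw [hf i (by omega), map_mul, ← hadm, ← map_mul]
    simp [g', inc, incR_apply, adamsRingHom, adams_mul hK]
  rw [hL1, hA]
  simp only [map_sum, map_mul, map_pow, mul_sum]
  refine sum_congr rfl fun i _ => ?_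
  have h1 : adamsRingHom hsplit j (AdjoinRoot.of (KRR.extPoly P e) (c i)) =
      AdjoinRoot.of (KRR.extPoly P e) (adams P j (c i)) :=
    (map_adams hext.isLambdaHom hext.aug_comp j (c i)).symm
  have h2 : adamsRingHom hsplit j (AdjoinRoot.root (KRR.extPoly P e)) = AdjoinRoot.root (KRR.extPoly P e) ^ j :=
    adams_line hline j
  rw [h1, h2, map_pow, hof, hroot, ← pow_mul, mul_comm j i,
    show (j : AdjoinRoot (splitPoly u)) * liftR l Θ₁ w * (AdjoinRoot.of (splitPoly u) (g' (adams P j (c i))) *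
      AdjoinRoot.root (splitPoly u) ^ (i * j)) = AdjoinRoot.of (splitPoly u) (g' (adams P j (c i))) *
      ((j : AdjoinRoot (splitPoly u)) * liftR l Θ₁ w * AdjoinRoot.root (splitPoly u) ^ (i * j)) by ring,
    functional_of_mul', split_identity u hu hj φ hφ (Θ₁ linv) hlinv' (liftR l Θ₁ w) hw' i]

end Main

end Groth.Agent.Lambda
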