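import Groth.Agent.Lambda.Elem
import Mathlib.RingTheory.AdjoinRoot
import Mathlib.RingTheory.Localization.FractionRing
import Mathlib.RingTheory.Localization.Away.Basic
import Mathlib.RingTheory.Flat.Basic
import Mathlib.RingTheory.Flat.Localization
import Mathlib.RingTheory.TensorProduct.Maps

/-!
# Adams–Riemann–Roch for an elementary projection: the split identity
-/

universe u v w

open Finset LambdaRing Polynomial

namespace Groth.Agent.Lambda

/-- `1 + v + ⋯ + v^(j-1)`. -/
def qS {A : Type*} [CommRing A] (j : ℕ) (v : A) : A := ∑ k ∈ range j, v ^ k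

theorem map_qS {A B : Type*} [CommRing A] [CommRing B] (φ : A →+* B) (j : ℕ) (v : A) :
    φ (qS j v) = qS j (φ v) := by simp [qS]

theorem qS_mul_one_sub {A : Type*} [CommRing A] (j : ℕ) (v : A) : qS j v * (1 - v) = 1 - v ^ j :=
  geom_sum_mul_neg v j

theorem pow_mul_qS {A : Type*} [CommRing A] (j : ℕ) {x y x' : A} (h : x' * x = 1) :
    x ^ (j - 1) * qS j (y * x') = ∑ k ∈ range j, y ^ k * x ^ (j - 1 - k) := by
  rw [qS, mul_sum]
  refine sum_congr rfl fun k hk => ?_
  have hk' : k ≤ j - 1 := by rw [mem_range] at hk; omega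
  calc x ^ (j - 1) * (y * x') ^ k = x ^ (j - 1 - k) * x ^ k * (y ^ k * x' ^ k) := by
        rw [← pow_add, Nat.sub_add_cancel hk', mul_pow]
    _ = y ^ k * x ^ (j - 1 - k) * (x' * x) ^ k := by rw [mul_pow]; ring
    _ = _ := by rw [h, one_pow, mul_one]

/-! ## Complete homogeneous symmetric values -/

/-- `∏ (1 - u_a t)⁻¹`. -/
noncomputable def hSeries {A : Type*} [CommRing A] {m : ℕ} (u : Fin m → A) : PowerSeries A :=
  (∏ a, (1 - PowerSeries.C (u a) * PowerSeries.X)).invOfUnit 1

/-- Coefficients of `∏ (1 - u_a t)⁻¹`. -/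
noncomputable def hc {A : Type*} [CommRing A] {m : ℕ} (u : Fin m → A) (i : ℕ) : A :=
  PowerSeries.coeff i (hSeries u)

theorem hSeries_unique {A : Type*} [CommRing A] {m : ℕ} (u : Fin m → A) {S : PowerSeries A}
    (h : S * ∏ a, (1 - PowerSeries.C (u a) * PowerSeries.X) = 1) : S = hSeries u := by
  refine left_inv_eq_right_inv h (PowerSeries.mul_invOfUnit _ 1 ?_)
  simp [map_prod]

theorem hSeries_mul {A : Type*} [CommRing A] {m : ℕ} (u : Fin m → A) :
    hSeries u * ∏ a, (1 - PowerSeries.C (u a) * PowerSeries.X) = 1 := by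
  rw [mul_comm]
  refine PowerSeries.mul_invOfUnit _ 1 ?_
  simp [map_prod]

theorem map_hc {A B : Type*} [CommRing A] [CommRing B] (φ : A →+* B) {m : ℕ} (u : Fin m → A) (i : ℕ) :
    φ (hc u i) = hc (fun a => φ (u a)) i := by
  have h := congrArg (PowerSeries.map φ) (hSeries_mul u)
  simp only [map_mul, map_prod, map_sub, map_one, PowerSeries.map_C, PowerSeries.map_X] at h
  rw [hc, hc, ← hSeries_unique _ h, PowerSeries.coeff_map]

section Field

variable {F : Type*} [Field F] {r : ℕ}

/-- Lagrange coefficient `∏_{b ≠ a} (1 - u_b/u_a)⁻¹`. -/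
def lagC (u : Fin (r + 1) → F) (a : Fin (r + 1)) : F := ∏ b ∈ univ.erase a, (1 - u b * (u a)⁻¹)⁻¹

theorem hc_eq_sum (u : Fin (r + 1) → F) (hinj : Function.Injective u) (h0 : ∀ a, u a ≠ 0) (i : ℕ) :
    hc u i = ∑ a, lagC u a * u a ^ i := by
  let G : F[X] := ∑ a, C (lagC u a) * ∏ b ∈ univ.erase a, (1 - C (u b) * X)
  have hG : G = 1 := by
    refine eq_of_natDegree_lt_card_of_eval_eq G 1 (f := fun a => (u a)⁻¹)
      (fun a b hab => hinj (inv_injective hab)) (fun c => ?_) ?_
    · rw [eval_one, eval_finsetSum, sum_eq_single c]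
      · rw [eval_mul, eval_C, eval_prod, lagC, ← prod_mul_distrib]
        refine prod_eq_one fun b hb => ?_
        simp only [eval_sub, eval_one, eval_mul, eval_C, eval_X]
        refine inv_mul_cancel₀ (sub_ne_zero.mpr ?_)
        intro h
        have : u b = u c := by
          have := congrArg (· * u c) h
          simpa [h0 c] using this.symm
        exact (ne_of_mem_erase hb) (hinj this)
      · intro a _ hac
        rw [eval_mul, eval_prod, prod_eq_zero (mem_erase.mpr ⟨Ne.symm hac, mem_univ c⟩), mul_zero]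
        simp [h0 c]
      · simp
    · rw [natDegree_one, max_eq_left (Nat.zero_le _), Fintype.card_fin, Nat.lt_succ_iff]
      refine natDegree_sum_le_of_forall_le _ _ fun a _ => ?_
      refine natDegree_C_mul_le _ _ |>.trans ?_
      refine (natDegree_prod_le _ _).trans ((sum_le_card_nsmul _ _ 1 fun b _ => ?_).trans ?_)
      · refine (natDegree_sub_le _ _).trans ?_
        simp only [natDegree_one, zero_le, max_eq_right]
        exact (natDegree_C_mul_le _ _).trans natDegree_X_le
      · simp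
  have hgeo : ∀ a, PowerSeries.mk (fun i => u a ^ i) * (1 - PowerSeries.C (u a) * PowerSeries.X) = 1 := by
    intro a
    ext n
    rcases n with _ | n
    · simp [mul_sub]
    · simp [mul_sub, ← mul_assoc, PowerSeries.coeff_succ_mul_X, pow_succ, mul_comm]
  have hS : (∑ a, PowerSeries.C (lagC u a) * PowerSeries.mk (fun i => u a ^ i)) *
      ∏ b, (1 - PowerSeries.C (u b) * PowerSeries.X) = 1 := by
    have : ((G : F[X]) : PowerSeries F) = 1 := by rw [hG]; simp
    refine Eq.trans ?_ this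
    rw [sum_mul, ← Polynomial.coeToPowerSeries.ringHom_apply, map_sum]
    refine sum_congr rfl fun a _ => ?_
    rw [← mul_prod_erase _ _ (mem_univ a), map_mul, map_prod]
    simp only [map_sub, map_one, map_mul, Polynomial.coeToPowerSeries.ringHom_apply, Polynomial.coe_C,
      Polynomial.coe_X]
    rw [mul_assoc, ← mul_assoc (PowerSeries.mk _), hgeo, one_mul]
  rw [hc, ← hSeries_unique u hS, map_sum]
  simp [PowerSeries.coeff_C_mul]

end Field

/-! ## The split algebra `A[ℓ]/∏ (ℓ - u_a)` -/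

section Split

variable {A : Type*} [CommRing A]

/-- Every element of `A[T]/(f)`, `f` monic of degree `m`, is a combination of `T^i`, `i < m`. -/
theorem exists_coeffs {f : A[X]} (hf : f.Monic) {m : ℕ} (hm : f.natDegree ≤ m) (y : AdjoinRoot f) :
    ∃ c : ℕ → A, y = ∑ i ∈ range m, AdjoinRoot.of f (c i) * AdjoinRoot.root f ^ i := by
  obtain ⟨g, rfl⟩ := AdjoinRoot.mk_surjective y
  refine ⟨(g %ₘ f).coeff, ?_⟩
  have hg : AdjoinRoot.mk f g = AdjoinRoot.mk f (g %ₘ f) :=
    AdjoinRoot.mk_eq_mk.mpr ⟨g /ₘ f, by linear_combination -modByMonic_add_div g f⟩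
  rcases eq_or_ne f 1 with h1 | h1
  · have hone : AdjoinRoot.mk f 1 = 0 := AdjoinRoot.mk_eq_zero.mpr (h1 ▸ dvd_rfl)
    have hz : ∀ z : AdjoinRoot f, z = 0 := fun z => by rw [← mul_one z, ← map_one (AdjoinRoot.mk f), hone, mul_zero]
    exact (hz _).trans (hz _).symm
  · have hlt : (g %ₘ f).natDegree < m := lt_of_lt_of_le (natDegree_modByMonic_lt g hf h1) hm
    rw [hg]
    conv_lhs => rw [as_sum_range_C_mul_X_pow' (g %ₘ f) hlt]
    simp [map_sum, AdjoinRoot.mk_X]

variable {m : ℕ}

/-- `∏ (T - u_a)`. -/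
noncomputable def splitPoly (u : Fin m → A) : A[X] := ∏ a, (X - C (u a))

theorem monic_splitPoly (u : Fin m → A) : (splitPoly u).Monic := monic_prod_of_monic _ _ fun a _ => monic_X_sub_C _

theorem natDegree_splitPoly_le (u : Fin m → A) : (splitPoly u).natDegree ≤ m := by
  refine (natDegree_prod_le _ _).trans ((sum_le_card_nsmul _ _ 1 fun a _ => natDegree_X_sub_C_le _).trans ?_)
  simp

theorem eval₂_splitPoly {B : Type*} [CommRing B] (φ : A →+* B) (u : Fin m → A) (x : B) :
    (splitPoly u).eval₂ φ x = ∏ a, (x - φ (u a)) := by simp [splitPoly, eval₂_finsetProd]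

theorem prod_root_sub (u : Fin m → A) :
    ∏ a, (AdjoinRoot.root (splitPoly u) - AdjoinRoot.of (splitPoly u) (u a)) = 0 := by
  rw [← eval₂_splitPoly]; exact AdjoinRoot.eval₂_root _

/-- Evaluation at `u_a`. -/
noncomputable def evAt (u : Fin m → A) (a : Fin m) : AdjoinRoot (splitPoly u) →+* A :=
  AdjoinRoot.lift (RingHom.id A) (u a) (by
    rw [eval₂_splitPoly]; exact prod_eq_zero (mem_univ a) (by simp))

theorem evAt_of (u : Fin m → A) (a : Fin m) (x : A) : evAt u a (AdjoinRoot.of _ x) = x := by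
  simp [evAt]

theorem evAt_root (u : Fin m → A) (a : Fin m) : evAt u a (AdjoinRoot.root _) = u a := by
  simp [evAt]

theorem isUnit_of_evAt {u : Fin m → A} {x : AdjoinRoot (splitPoly u)} (h : ∀ a, IsUnit (evAt u a x)) :
    IsUnit x := by
  by_contra hx
  obtain ⟨M, hM, hxM⟩ := exists_max_ideal_of_mem_nonunits hx
  haveI := hM.isPrime
  let π := Ideal.Quotient.mk M
  have h0 : ∏ a, (π (AdjoinRoot.root (splitPoly u)) - π (AdjoinRoot.of (splitPoly u) (u a))) = 0 := by
    simp only [← map_sub, ← map_prod, prod_root_sub, map_zero]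
  obtain ⟨a, -, ha⟩ := prod_eq_zero_iff.mp h0
  have hh : π.comp (AdjoinRoot.mk (splitPoly u)) =
      ((π.comp (AdjoinRoot.of (splitPoly u))).comp (evAt u a)).comp (AdjoinRoot.mk (splitPoly u)) := by
    refine Polynomial.ringHom_ext (fun c => ?_) ?_
    · simp [evAt_of]
    · simp [evAt_root, sub_eq_zero.mp ha]
  obtain ⟨g, rfl⟩ := AdjoinRoot.mk_surjective x
  have hg : π (AdjoinRoot.mk (splitPoly u) g) =
      π (AdjoinRoot.of (splitPoly u) (evAt u a (AdjoinRoot.mk (splitPoly u) g))) := RingHom.congr_fun hh g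
  have hu := (h a).map (π.comp (AdjoinRoot.of (splitPoly u)))
  rw [RingHom.comp_apply, ← hg] at hu
  rw [show π (AdjoinRoot.mk (splitPoly u) g) = 0 from Ideal.Quotient.eq_zero_iff_mem.mpr hxM] at hu
  exact not_isUnit_zero hu

/-- `θ^j` of `∑ u_a ℓ⁻¹`. -/
noncomputable def theta (u : Fin m → A) (j : ℕ) (linv : AdjoinRoot (splitPoly u)) : AdjoinRoot (splitPoly u) :=
  ∏ a, qS j (AdjoinRoot.of (splitPoly u) (u a) * linv)

theorem evAt_theta (u : Fin m → A) (j : ℕ) (linv : AdjoinRoot (splitPoly u)) (a : Fin m) :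
    evAt u a (theta u j linv) = ∏ b, qS j (u b * evAt u a linv) := by
  simp [theta, map_prod, map_qS, evAt_of]

theorem exists_functional (u : Fin m → A) (c : ℕ → A) : ∃ φ : AdjoinRoot (splitPoly u) →ₗ[A] A,
    ∀ i < m, φ (AdjoinRoot.root (splitPoly u) ^ i) = c i := by
  rcases subsingleton_or_nontrivial A with hA | hA
  · exact ⟨0, fun i _ => Subsingleton.elim _ _⟩
  have hd : (AdjoinRoot.powerBasis' (monic_splitPoly u)).dim = m := by
    rw [AdjoinRoot.powerBasis'_dim, splitPoly,
      natDegree_prod_of_monic _ _ (fun a _ => monic_X_sub_C _)]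
    simp
  refine ⟨(AdjoinRoot.powerBasis' (monic_splitPoly u)).basis.constr A fun i => c i, fun i hi => ?_⟩
  have h := (AdjoinRoot.powerBasis' (monic_splitPoly u)).basis.constr_basis A (fun i => c i) ⟨i, hd.symm ▸ hi⟩
  rwa [PowerBasis.coe_basis, AdjoinRoot.powerBasis'_gen] at h

theorem functional_of_mul' {f : A[X]} {M : AdjoinRoot f →ₗ[A] A} (a : A) (y : AdjoinRoot f) :
    M (AdjoinRoot.of f a * y) = a * M y := by
  rw [← AdjoinRoot.algebraMap_eq, ← Algebra.smul_def, map_smul, smul_eq_mul]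

theorem functional_natural {B : Type*} [CommRing B] (ψ : A →+* B) (u : Fin m → A) (v : Fin m → B)
    (φ : AdjoinRoot (splitPoly u) →ₗ[A] A) (hφ : ∀ i < m, φ (AdjoinRoot.root (splitPoly u) ^ i) = hc u i)
    (φ' : AdjoinRoot (splitPoly v) →ₗ[B] B) (hφ' : ∀ i < m, φ' (AdjoinRoot.root (splitPoly v) ^ i) = hc v i)
    (hv : ∀ a, ψ (u a) = v a) (Ψ : AdjoinRoot (splitPoly u) →+* AdjoinRoot (splitPoly v))
    (hof : ∀ c, Ψ (AdjoinRoot.of _ c) = AdjoinRoot.of _ (ψ c))
    (hroot : Ψ (AdjoinRoot.root _) = AdjoinRoot.root _) (y : AdjoinRoot (splitPoly u)) :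
    φ' (Ψ y) = ψ (φ y) := by
  obtain ⟨c, rfl⟩ := exists_coeffs (monic_splitPoly u) (natDegree_splitPoly_le u) y
  simp only [map_sum, map_mul, map_pow, hof, hroot, functional_of_mul']
  refine sum_congr rfl fun i hi => ?_
  rw [hφ' i (mem_range.mp hi), hφ i (mem_range.mp hi), map_hc]
  simp [hv]

end Split

/-! ## The identity -/

section Identity

variable {r : ℕ}

theorem identity_domain {A : Type*} [CommRing A] [IsDomain A] (u : Fin (r + 1) → A) (j : ℕ)
    (h0 : ∀ a, u a ≠ 0) (hinj : Function.Injective fun a => u a ^ j)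
    (φ : AdjoinRoot (splitPoly u) →ₗ[A] A) (hφ : ∀ i < r + 1, φ (AdjoinRoot.root (splitPoly u) ^ i) = hc u i)
    (linv : AdjoinRoot (splitPoly u)) (hlinv : linv * AdjoinRoot.root (splitPoly u) = 1)
    (w : AdjoinRoot (splitPoly u)) (hw : w * theta u j linv = 1) (i : ℕ) :
    φ ((j : AdjoinRoot (splitPoly u)) * w * AdjoinRoot.root (splitPoly u) ^ (i * j)) =
      hc (fun a => u a ^ j) i := by
  let ι : A →+* FractionRing A := algebraMap A (FractionRing A)
  have hι : Function.Injective ι := IsFractionRing.injective A (FractionRing A)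
  have hinj' : Function.Injective fun a => ι (u a) := fun a b h => hinj (by simp [hι h])
  have hne : ∀ a, ι (u a) ≠ 0 := fun a h => h0 a (hι (by rw [h, map_zero]))
  have hΦ : ∀ y, ι (φ y) = ∑ a, lagC (fun a => ι (u a)) a * ι (evAt u a y) := by
    intro y
    obtain ⟨c, rfl⟩ := exists_coeffs (monic_splitPoly u) (natDegree_splitPoly_le u) y
    simp only [map_sum, functional_of_mul', map_mul, map_pow, evAt_of, evAt_root, mul_sum]
    rw [sum_comm]
    refine sum_congr rfl fun i hi => ?_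
    rw [hφ i (mem_range.mp hi), map_hc, hc_eq_sum _ hinj' hne, mul_sum]
    exact sum_congr rfl fun a _ => by ring
  refine hι ?_
  rw [hΦ, map_hc, hc_eq_sum (fun a => ι (u a ^ j)) (fun a b h => hinj (hι h))
    (fun a => by rw [map_pow]; exact pow_ne_zero _ (hne a))]
  refine sum_congr rfl fun a _ => ?_
  have hl : ι (evAt u a linv) = (ι (u a))⁻¹ := by
    refine eq_inv_of_mul_eq_one_left ?_
    rw [← evAt_root u a, ← map_mul, ← map_mul, hlinv, map_one, map_one]
  have hw' : ι (evAt u a w) * ((j : FractionRing A) * ∏ b ∈ univ.erase a, qS j (ι (u b) * (ι (u a))⁻¹)) = 1 := by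
    have h := congrArg (fun z => ι (evAt u a z)) hw
    simp only [map_mul, map_one, evAt_theta, map_prod, map_qS, hl] at h
    rw [← mul_prod_erase _ _ (mem_univ a), mul_inv_cancel₀ (hne a)] at h
    simpa [qS] using h
  have hJ : (j : FractionRing A) * ι (evAt u a w) = (∏ b ∈ univ.erase a, qS j (ι (u b) * (ι (u a))⁻¹))⁻¹ :=
    eq_inv_of_mul_eq_one_left (by linear_combination hw')
  have hc' : lagC (fun a => ι (u a ^ j)) a =
      lagC (fun a => ι (u a)) a * (∏ b ∈ univ.erase a, qS j (ι (u b) * (ι (u a))⁻¹))⁻¹ := by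
    rw [lagC, lagC, ← prod_inv_distrib (f := fun b => qS j (ι (u b) * (ι (u a))⁻¹)), ← prod_mul_distrib]
    refine prod_congr rfl fun b _ => ?_
    rw [← mul_inv, mul_comm (1 - _), qS_mul_one_sub, map_pow, map_pow, mul_pow, inv_pow]
  rw [hc', ← hJ]
  simp only [map_mul, map_natCast, map_pow, evAt_root]
  ring

/-- Universal denominator. -/
noncomputable def univDen (r j : ℕ) : MvPolynomial (Fin (r + 1)) ℤ :=
  (∏ a, MvPolynomial.X a) *
    ∏ a : Fin (r + 1), ∏ b : Fin (r + 1), ∑ k ∈ range j, MvPolynomial.X b ^ k * MvPolynomial.X a ^ (j - 1 - k)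

theorem univDen_ne_zero (r : ℕ) {j : ℕ} (hj : 1 ≤ j) : univDen r j ≠ 0 := by
  intro h
  have h' := congrArg (MvPolynomial.eval fun _ : Fin (r + 1) => (1 : ℤ)) h
  simp [univDen, map_prod] at h'
  omega

theorem isUnit_univDen_image {A : Type*} [CommRing A] (u : Fin (r + 1) → A) (hu : ∀ a, IsUnit (u a)) (j : ℕ)
    (linv : AdjoinRoot (splitPoly u)) (hlinv : linv * AdjoinRoot.root (splitPoly u) = 1)
    (hθ : IsUnit (theta u j linv)) : IsUnit (MvPolynomial.aeval u (univDen r j)) := by
  rw [univDen, map_mul, map_prod, map_prod]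
  refine IsUnit.mul (IsUnit.prod_iff.mpr fun a _ => by simpa using hu a) (IsUnit.prod_iff.mpr fun a _ => ?_)
  rw [map_prod]
  refine IsUnit.prod_iff.mpr fun b _ => ?_
  simp only [map_sum, map_mul, map_pow, MvPolynomial.aeval_X]
  have hv : evAt u a linv * u a = 1 := by rw [← evAt_root u a, ← map_mul, hlinv, map_one]
  rw [← pow_mul_qS j hv]
  have h := hθ.map (evAt u a)
  rw [evAt_theta, IsUnit.prod_iff] at h
  exact ((hu a).pow _).mul (h b (mem_univ b))

/-- The split Adams–Riemann–Roch identity: `φ(j θ⁻¹ ℓ^{ij}) = h_i(u^j)`. -/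
theorem split_identity {A : Type*} [CommRing A] (u : Fin (r + 1) → A) (hu : ∀ a, IsUnit (u a)) {j : ℕ}
    (hj : 1 ≤ j) (φ : AdjoinRoot (splitPoly u) →ₗ[A] A)
    (hφ : ∀ i < r + 1, φ (AdjoinRoot.root (splitPoly u) ^ i) = hc u i)
    (linv : AdjoinRoot (splitPoly u)) (hlinv : linv * AdjoinRoot.root (splitPoly u) = 1)
    (w : AdjoinRoot (splitPoly u)) (hw : w * theta u j linv = 1) (i : ℕ) :
    φ ((j : AdjoinRoot (splitPoly u)) * w * AdjoinRoot.root (splitPoly u) ^ (i * j)) =
      hc (fun a => u a ^ j) i := by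
  let N := univDen r j
  let A₀ := Localization.Away N
  have hN : IsUnit (MvPolynomial.aeval u N) :=
    isUnit_univDen_image u hu j linv hlinv (IsUnit.of_mul_eq_one_right w hw)
  have hle : Submonoid.powers N ≤ nonZeroDivisors _ := powers_le_nonZeroDivisors_of_noZeroDivisors (univDen_ne_zero r hj)
  haveI : IsDomain A₀ := IsLocalization.isDomain_localization hle
  let ι₀ : MvPolynomial (Fin (r + 1)) ℤ →+* A₀ := algebraMap _ A₀
  have hι₀ : Function.Injective ι₀ := IsLocalization.injective A₀ hle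
  let ψ : A₀ →+* A := IsLocalization.Away.lift N (g := (MvPolynomial.aeval u).toRingHom) hN
  let u₀ : Fin (r + 1) → A₀ := fun a => ι₀ (MvPolynomial.X a)
  have hψu : ∀ a, ψ (u₀ a) = u a := fun a => by
    simp [ψ, u₀, ι₀, IsLocalization.Away.lift_eq]
  have hu₀ : ∀ a, u₀ a ≠ 0 := fun a h => MvPolynomial.X_ne_zero a (hι₀ (by rw [map_zero]; exact h))
  have hinj : Function.Injective fun a => u₀ a ^ j := by
    intro a b hab
    simp only [u₀, ← map_pow] at hab
    by_contra hne
    have := congrArg (MvPolynomial.eval fun c : Fin (r + 1) => if c = a then (2 : ℤ) else 1) (hι₀ hab)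
    simp [Ne.symm hne] at this
    exact absurd this (one_lt_pow₀ one_lt_two (by omega : j ≠ 0)).ne'
  have hNunit : IsUnit (ι₀ N) := IsLocalization.Away.algebraMap_isUnit N
  simp only [N, univDen, map_mul, map_prod, IsUnit.mul_iff, IsUnit.prod_iff, map_sum, map_pow] at hNunit
  have hu₀u : ∀ a, IsUnit (u₀ a) := fun a => hNunit.1 a (mem_univ a)
  have hroot₀ : IsUnit (AdjoinRoot.root (splitPoly u₀)) :=
    isUnit_of_evAt fun a => by rw [evAt_root]; exact hu₀u a
  obtain ⟨linv₀, hlinv₀⟩ := hroot₀.exists_left_inv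
  have hθ₀ : IsUnit (theta u₀ j linv₀) := by
    refine isUnit_of_evAt fun a => ?_
    have hv : evAt u₀ a linv₀ * u₀ a = 1 := by rw [← evAt_root u₀ a, ← map_mul, hlinv₀, map_one]
    rw [evAt_theta, IsUnit.prod_iff]
    intro b _
    have h := hNunit.2 a (mem_univ a) b (mem_univ b)
    rw [show (∑ k ∈ range j, u₀ b ^ k * u₀ a ^ (j - 1 - k)) = _ from (pow_mul_qS j hv).symm] at h
    exact (IsUnit.mul_iff.mp h).2
  obtain ⟨w₀, hw₀⟩ := hθ₀.exists_left_inv
  let Ψ : AdjoinRoot (splitPoly u₀) →+* AdjoinRoot (splitPoly u) :=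
    AdjoinRoot.lift ((AdjoinRoot.of (splitPoly u)).comp ψ) (AdjoinRoot.root (splitPoly u)) (by
      rw [eval₂_splitPoly]
      simp only [RingHom.comp_apply, hψu]
      exact prod_root_sub u)
  have hof : ∀ c, Ψ (AdjoinRoot.of _ c) = AdjoinRoot.of _ (ψ c) := fun c => by simp [Ψ]
  have hroot : Ψ (AdjoinRoot.root _) = AdjoinRoot.root _ := by simp [Ψ]
  have hl : Ψ linv₀ = linv := by
    have h := congrArg Ψ hlinv₀
    rw [map_mul, hroot, map_one] at h
    exact left_inv_eq_right_inv h (by rw [mul_comm]; exact hlinv)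
  have hw' : Ψ w₀ = w := by
    have h := congrArg Ψ hw₀
    simp only [theta, map_mul, map_prod, map_qS, map_one, hof, hψu, hl] at h
    exact left_inv_eq_right_inv h (by rw [mul_comm]; exact hw)
  obtain ⟨φ₀, hφ₀⟩ := exists_functional u₀ (hc u₀)
  have h := congrArg ψ (identity_domain u₀ j hu₀ hinj φ₀ hφ₀ linv₀ hlinv₀ w₀ hw₀ i)
  rw [← functional_natural ψ u₀ u φ₀ hφ₀ φ hφ hψu Ψ hof hroot, map_hc] at h
  simpa [hroot, hw', hψu] using h

end Identity

/-! ## λ-operations on twists, Bott classes -/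

section Twist

variable {K : Type v} [CommRing K] [LambdaOps K] {P : PosStructure K}

theorem esymm_map_mul {A : Type*} [CommRing A] {m : ℕ} (v : Fin m → A) (c : A) (k : ℕ) :
    ((univ : Finset (Fin m)).val.map fun a => v a * c).esymm k =
      ((univ : Finset (Fin m)).val.map v).esymm k * c ^ k := by
  rw [Finset.esymm_map_val, Finset.esymm_map_val, sum_mul]
  refine sum_congr rfl fun t ht => ?_
  rw [prod_mul_distrib, prod_const, (mem_powersetCard.mp ht).2]

theorem lam_mul_line (hK : HasSplitting K P) (x : K) {l : K} (hl : P.IsLine l) (k : ℕ) :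
    LambdaOps.lam k (x * l) = LambdaOps.lam k x * l ^ k := by
  suffices h : lamSeries (x * l) = PowerSeries.rescale l (lamSeries x) by
    have := congrArg (PowerSeries.coeff k) h
    rwa [coeff_lamSeries, PowerSeries.coeff_rescale, coeff_lamSeries, mul_comm (l ^ k)] at this
  have key : ∀ e ∈ P.pos, lamSeries (e * l) = PowerSeries.rescale l (lamSeries e) := by
    intro e he
    obtain ⟨L, f, hf, -, s, hs, hse, -⟩ := exists_split hK he
    obtain ⟨m, u, -, hu⟩ := exists_enum s
    ext n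
    refine hf.injective ?_
    have hul : ∀ a, L.posStr.IsLine (u a) := fun a =>
      hs _ (by rw [← hu]; exact Multiset.mem_map_of_mem u (Finset.mem_univ_val a))
    have hsum : ∑ a, u a = f e := by rw [← hse, Finset.sum_eq_multiset_sum, hu]
    rw [coeff_lamSeries, hf.isLambdaHom, PowerSeries.coeff_rescale, coeff_lamSeries, map_mul, map_mul, map_pow,
      hf.isLambdaHom, ← hsum, sum_mul,
      lam_finset_sum_eq_esymm _ (fun a _ => lam_line (isLine_mul (hul a) (map_isLine hf hl))),
      lam_finset_sum_eq_esymm _ (fun a _ => lam_line (hul a))]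
    simp only [Finset.esymm_map_val, mul_sum]
    refine sum_congr rfl fun t ht => ?_
    rw [prod_mul_distrib, prod_const, (mem_powersetCard.mp ht).2, mul_comm]
  obtain ⟨p, q, hp, hq, rfl⟩ := P.exists_sub x
  have h1 : lamSeries ((p - q) * l) * lamSeries (q * l) = lamSeries (p * l) := by
    rw [← lamSeries_add]; congr 1; ring
  have h2 : lamSeries (p - q) * lamSeries q = lamSeries p := by
    rw [← lamSeries_add]; congr 1; ring
  rw [key p hp, key q hq, ← h2, map_mul] at h1
  exact ((isUnit_lamSeries q).map (PowerSeries.rescale l)).mul_right_cancel h1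

theorem map_bott {C : Type*} [CommRing C] (χ : K →+* C) (P : PosStructure K) (j : ℕ) (y : K) {m : ℕ}
    (v : Fin m → C) (hm : (P.aug y).toNat = m)
    (h : ∀ k, χ (LambdaOps.lam k y) = ((univ : Finset (Fin m)).val.map v).esymm k) :
    χ (KRR.bott P j y) = ∏ a, qS j (v a) := by
  subst hm
  have h0 : MvPolynomial.esymmAlgHom (Fin (P.aug y).toNat) ℤ (P.aug y).toNat (KRR.bottPoly j (P.aug y).toNat) =
      ⟨KRR.bottSym j (P.aug y).toNat, KRR.bottSym_isSymmetric j _⟩ :=
    AlgEquiv.apply_symm_apply (MvPolynomial.esymmAlgEquiv (Fin (P.aug y).toNat) ℤ (Fintype.card_fin _)) _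
  have h' := congrArg Subtype.val h0
  rw [MvPolynomial.esymmAlgHom_apply] at h'
  have h'' := congrArg (MvPolynomial.aeval v) h'
  rw [← AlgHom.comp_apply, MvPolynomial.comp_aeval] at h''
  rw [KRR.bott, show χ (MvPolynomial.aeval (fun i : Fin (P.aug y).toNat => LambdaOps.lam (i.1 + 1) y)
      (KRR.bottPoly j (P.aug y).toNat)) = χ.toIntAlgHom (MvPolynomial.aeval
      (fun i : Fin (P.aug y).toNat => LambdaOps.lam (i.1 + 1) y) (KRR.bottPoly j (P.aug y).toNat)) from rfl,
    ← AlgHom.comp_apply, MvPolynomial.comp_aeval]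
  have hfun : (fun i : Fin (P.aug y).toNat => χ.toIntAlgHom (LambdaOps.lam ((i : ℕ) + 1) y)) =
      fun i : Fin (P.aug y).toNat => MvPolynomial.aeval v (MvPolynomial.esymm (Fin (P.aug y).toNat) ℤ ((i : ℕ) + 1)) := by
    funext i
    rw [MvPolynomial.aeval_esymm_eq_multiset_esymm, RingHom.toIntAlgHom_apply, h]
  rw [hfun]
  exact h''.trans (by simp [KRR.bottSym, qS])

theorem negLamSeries_lines {m : ℕ} (u : Fin m → K) (hu : ∀ a, P.IsLine (u a)) :
    negLamSeries (∑ a, u a) = ∏ a, (1 - PowerSeries.C (u a) * PowerSeries.X) := by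
  rw [negLamSeries, lamSeries_sum, map_prod]
  refine prod_congr rfl fun a _ => ?_
  rw [lamSeries_line (hu a)]
  ext n
  rcases n with _ | _ | n <;> simp [PowerSeries.coeff_rescale, PowerSeries.coeff_X]

end Twist

end Groth.Agent.Lambda
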